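import Mathlib

set_option autoImplicit false
universe u

open TensorProduct

namespace Groth.Agent.H5.DescSub

section
variable (A A' : Type u) [CommRing A] [CommRing A'] [Algebra A A']
variable (M : Type u) [AddCommGroup M] [Module A M] (N' : Submodule A' (A' ⊗[A] M))

/-- `m ↦ [1 ⊗ m]`. -/
noncomputable def rho : M →ₗ[A] (A' ⊗[A] M) ⧸ N' :=
  (N'.mkQ.restrictScalars A) ∘ₗ (TensorProduct.mk A A' M 1)

lemma ker_rho : LinearMap.ker (rho A A' M N') =
    (N'.restrictScalars A).comap (TensorProduct.mk A A' M 1) := by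
  ext m
  simp [rho, Submodule.Quotient.mk_eq_zero]

/-- `(a ⊗ b) ⊗ m ↦ a ⊗ [b ⊗ m]`. -/
noncomputable def Phi : (A' ⊗[A] A') ⊗[A] M →ₗ[A] A' ⊗[A] ((A' ⊗[A] M) ⧸ N') :=
  (LinearMap.lTensor A' (N'.mkQ.restrictScalars A)) ∘ₗ (TensorProduct.assoc A A' A' M).toLinearMap

@[simp] lemma Phi_tmul (a b : A') (m : M) :
    Phi A A' M N' ((a ⊗ₜ b) ⊗ₜ m) = a ⊗ₜ (N'.mkQ (b ⊗ₜ m)) := rfl

/-- multiplication by `a ⊗ b` on the target. -/
noncomputable def T (a b : A') :
    A' ⊗[A] ((A' ⊗[A] M) ⧸ N') →ₗ[A] A' ⊗[A] ((A' ⊗[A] M) ⧸ N') :=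
  TensorProduct.map (LinearMap.mulLeft A a)
    ((LinearMap.lsmul A' ((A' ⊗[A] M) ⧸ N') b).restrictScalars A)

lemma Phi_smul_tmul (a b : A') (y : (A' ⊗[A] A') ⊗[A] M) :
    Phi A A' M N' ((a ⊗ₜ[A] b) • y) = T A A' M N' a b (Phi A A' M N' y) := by
  induction y with
  | zero => simp
  | add y z hy hz => rw [smul_add, map_add, hy, hz, map_add, map_add]
  | tmul c m =>
    induction c with
    | zero => simp
    | add c c' hc hc' => rw [add_tmul, smul_add, map_add, hc, hc', map_add, map_add]
    | tmul a' b' =>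
      rw [TensorProduct.smul_tmul', smul_eq_mul, Algebra.TensorProduct.tmul_mul_tmul, Phi_tmul,
        Phi_tmul, T, TensorProduct.map_tmul]
      congr 1

lemma Phi_smul_eq_zero (c : A' ⊗[A] A') (y : (A' ⊗[A] A') ⊗[A] M)
    (hy : Phi A A' M N' y = 0) : Phi A A' M N' (c • y) = 0 := by
  induction c with
  | zero => simp
  | add c c' hc hc' => rw [add_smul, map_add, hc, hc', add_zero]
  | tmul a b => rw [Phi_smul_tmul, hy, map_zero]

/-- The kernel of `Φ` as an `A' ⊗ A'`-submodule. -/
noncomputable def K : Submodule (A' ⊗[A] A') ((A' ⊗[A] A') ⊗[A] M) where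
  carrier := {y | Phi A A' M N' y = 0}
  add_mem' := by
    intro x y hx hy
    change Phi A A' M N' (x + y) = 0
    rw [map_add, hx, hy, add_zero]
  zero_mem' := map_zero _
  smul_mem' := fun c y hy => Phi_smul_eq_zero A A' M N' c y hy

lemma Phi_d1 (x : A' ⊗[A] M) :
    Phi A A' M N' ((Algebra.TensorProduct.includeRight : A' →ₐ[A] A' ⊗[A] A').toLinearMap.rTensor M x)
      = (1 : A') ⊗ₜ N'.mkQ x := by
  induction x with
  | zero => simp
  | add x y hx hy => rw [map_add, map_add, hx, hy, map_add, tmul_add]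
  | tmul b m => rfl

lemma Phi_d0 (x : A' ⊗[A] M) :
    Phi A A' M N' ((Algebra.TensorProduct.includeLeft : A' →ₐ[A] A' ⊗[A] A').toLinearMap.rTensor M x)
      = (rho A A' M N').lTensor A' x := by
  induction x with
  | zero => simp
  | add x y hx hy => rw [map_add, map_add, hx, hy, map_add]
  | tmul b m => rfl

end

theorem main (A A' : Type u) [CommRing A] [CommRing A'] [Algebra A A']
    [Module.Flat A A'] (M : Type u) [AddCommGroup M] [Module A M]
    (N' : Submodule A' (A' ⊗[A] M))
    (h : Submodule.span (A' ⊗[A] A')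
          ((N'.restrictScalars A).map
            ((Algebra.TensorProduct.includeLeft : A' →ₐ[A] A' ⊗[A] A').toLinearMap.rTensor M) :
              Set ((A' ⊗[A] A') ⊗[A] M)) =
        Submodule.span (A' ⊗[A] A')
          ((N'.restrictScalars A).map
            ((Algebra.TensorProduct.includeRight : A' →ₐ[A] A' ⊗[A] A').toLinearMap.rTensor M) :
              Set ((A' ⊗[A] A') ⊗[A] M))) :
    ((N'.restrictScalars A).comap (TensorProduct.mk A A' M 1)).baseChange A' = N' := by
  apply le_antisymm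
  · rw [Submodule.baseChange_eq_span, Submodule.span_le]
    rintro _ ⟨m, hm, rfl⟩
    exact hm
  · intro x hx
    -- `d₀ x ∈ S₀ = S₁ ⊆ K`
    have h1 : (Algebra.TensorProduct.includeLeft : A' →ₐ[A] A' ⊗[A] A').toLinearMap.rTensor M x ∈
        K A A' M N' := by
      have h2 : Submodule.span (A' ⊗[A] A')
          ((N'.restrictScalars A).map
            ((Algebra.TensorProduct.includeRight : A' →ₐ[A] A' ⊗[A] A').toLinearMap.rTensor M) :
              Set ((A' ⊗[A] A') ⊗[A] M)) ≤ K A A' M N' := by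
        rw [Submodule.span_le]
        rintro _ ⟨y, hy, rfl⟩
        change Phi A A' M N' _ = 0
        rw [Phi_d1]
        have : N'.mkQ y = 0 := by
          rw [Submodule.mkQ_apply, Submodule.Quotient.mk_eq_zero]; exact hy
        rw [this, tmul_zero]
      apply h2
      rw [← h]
      exact Submodule.subset_span ⟨x, hx, rfl⟩
    have h3 : (rho A A' M N').lTensor A' x = 0 := by
      rw [← Phi_d0]; exact h1
    have hex := Module.Flat.lTensor_exact A' (LinearMap.exact_subtype_ker_map (rho A A' M N'))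
    obtain ⟨z, hz⟩ := (hex x).mp h3
    rw [Submodule.baseChange]
    -- transport along `ker ρ = N`
    have hk := ker_rho A A' M N'
    rw [← hz]
    clear hz
    induction z with
    | zero => simp
    | add z w hz hw => rw [map_add]; exact add_mem hz hw
    | tmul a n =>
      refine ⟨a ⊗ₜ ⟨n.1, ?_⟩, rfl⟩
      rw [← hk]; exact n.2

end Groth.Agent.H5.DescSub
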